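import Cfsg.Agent.Lib.Helper58.QSim.MonoDefs

/-!
# Project QSim (S5981): a cut of [HMONO] into three packages

* `PkgHOrth`  : an orthogonal `K`-basis of the `σ`-hermitian-type space `(W, β)`;
* `PkgHNormz` : normalisation of an orthogonal `K`-basis (all "norm forms" equal to one `τ`),
  using surjectivity of the norm `m ↦ m σ(m)` onto the non-zero `σ`-fixed elements;
* `PkgHGroup` : the monomial group of a normalised basis, of order `|U|^k * k!`,
  `U = {u | u σ(u) = 1}`.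

`pkgHMono_of_cut` assembles `PkgHMono` from these and `PkgNorm`.
-/

set_option autoImplicit false

namespace Cfsg.Agent.Lib.Helper3.QSim

open Cfsg.Agent.Lib.Helper58.QSim

universe u

/-- [HORTH] an orthogonal `K`-basis. -/
def PkgHOrth : Prop :=
  ∀ (F K W : Type u) [Field F] [Fintype F] [Field K] [Fintype K] [Algebra F K]
    [AddCommGroup W] [Module F W] [Module K W] [IsScalarTower F K W] [Module.Finite K W]
    (σ : K ≃ₐ[F] K) (β : LinearMap.BilinForm F W) (k : ℕ),
    Odd (Fintype.card F) → (∀ a, σ (σ a) = a) →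
    (∀ u v, β u v = β v u) → (∀ u, u ≠ 0 → ∃ v, β u v ≠ 0) →
    (∀ (a : K) (u v : W), β (a • u) v = β u (σ a • v)) →
    Module.finrank K W = k →
    ∃ v : Module.Basis (Fin k) K W, ∀ j l : Fin k, j ≠ l → ∀ a b : K, β (a • v j) (b • v l) = 0

/-- [HNORMZ] normalisation of an orthogonal `K`-basis. -/
def PkgHNormz : Prop :=
  ∀ (F K W : Type u) [Field F] [Fintype F] [Field K] [Fintype K] [Algebra F K]
    [AddCommGroup W] [Module F W] [Module K W] [IsScalarTower F K W] [Module.Finite K W]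
    (σ : K ≃ₐ[F] K) (β : LinearMap.BilinForm F W) (k : ℕ),
    (∀ a, σ (σ a) = a) →
    (∀ u v, β u v = β v u) → (∀ u, u ≠ 0 → ∃ v, β u v ≠ 0) →
    (∀ (a : K) (u v : W), β (a • u) v = β u (σ a • v)) →
    (∀ d : K, d ≠ 0 → σ d = d → ∃ m : K, m * σ m = d) →
    ∀ v : Module.Basis (Fin k) K W,
      (∀ j l : Fin k, j ≠ l → ∀ a b : K, β (a • v j) (b • v l) = 0) →
    ∃ (w : Module.Basis (Fin k) K W) (τ : K → F),
      ∀ (j l : Fin k) (a b : K), β (a • w j) (b • w l) = if j = l then τ (σ a * b) else 0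

/-- [HGROUP] the monomial group of a normalised basis. -/
def PkgHGroup : Prop :=
  ∀ (F K W : Type u) [Field F] [Fintype F] [Field K] [Fintype K] [Algebra F K]
    [AddCommGroup W] [Module F W] [Module K W] [IsScalarTower F K W]
    (σ : K ≃ₐ[F] K) (β : LinearMap.BilinForm F W) (k : ℕ)
    (w : Module.Basis (Fin k) K W) (τ : K → F),
    (∀ (j l : Fin k) (a b : K), β (a • w j) (b • w l) = if j = l then τ (σ a * b) else 0) →
    ∃ M : Subgroup (W ≃ₗ[F] W), (∀ m ∈ M, ∀ u v, β (m u) (m v) = β u v) ∧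
      Nat.card M = Nat.card {u : K // u * σ u = 1} ^ k * k.factorial

/-- the assembly of [HMONO] from the cut. -/
theorem pkgHMono_of_cut (hO : PkgHOrth.{u}) (hZ : PkgHNormz.{u}) (hG : PkgHGroup.{u})
    (hN : PkgNorm.{u}) : PkgHMono.{u} := by
  intro F K W _ _ _ _ _ _ _ _ _ _ σ β e k hodd hcard hσσ hσ1 hsymm hnd hadj hk
  have hoddK : Odd (Fintype.card K) := by
    rw [hcard]
    exact hodd.pow
  have hcard' : Fintype.card K = (Fintype.card F ^ e) ^ 2 := by
    rw [hcard, ← pow_mul, mul_comm]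
  obtain ⟨hU, hsurj⟩ := hN K σ.toRingEquiv (Fintype.card F ^ e) hoddK hcard' hσσ hσ1
  obtain ⟨v, hv⟩ := hO F K W σ β k hodd hσσ hsymm hnd hadj hk
  obtain ⟨w, τ, hw⟩ := hZ F K W σ β k hσσ hsymm hnd hadj hsurj v hv
  obtain ⟨M, hM, hMc⟩ := hG F K W σ β k w τ hw
  refine ⟨M, hM, ?_⟩
  have hU' : Nat.card {u : K // u * σ u = 1} = Fintype.card F ^ e + 1 := hU
  rw [hMc, hU']

end Cfsg.Agent.Lib.Helper3.QSim
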