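import Mathlib
import Cfsg.Agent.Lib.Helper3.QSim.HDefs

/-!
# Project QSim (S5981), package [HGROUP]

The monomial group of a normalised `K`-basis `w`: the `K`-linear maps
`w j ↦ u (π j) • w (π j)` (`u j σ(u j) = 1`, `π` a permutation), viewed as `F`-linear maps, form
a group of isometries of order `|U|^k * k!`.
-/

set_option autoImplicit false

namespace Cfsg.Agent.Lib.Helper3.QSim

open Cfsg.Agent.Lib.Helper58.QSim

universe u

section HGroup

variable {F K W : Type u} [Field F] [Field K] [Algebra F K]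
  [AddCommGroup W] [Module F W] [Module K W] [IsScalarTower F K W]
  (σ : K ≃ₐ[F] K) {k : ℕ} (w : Module.Basis (Fin k) K W)

theorem hg_unit (u : {u : K // u * σ u = 1}) : IsUnit (u : K) := by
  refine isUnit_iff_ne_zero.2 ?_
  intro h
  have h1 := u.2
  rw [h, zero_mul] at h1
  exact zero_ne_one h1

/-- the monomial `K`-linear equivalence `w j ↦ u (π j) • w (π j)`. -/
noncomputable def hgK (u : Fin k → {u : K // u * σ u = 1}) (π : Equiv.Perm (Fin k)) :
    W ≃ₗ[K] W :=
  w.equiv (w.isUnitSMul (fun i => hg_unit σ (u i))) π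

theorem hgK_apply (u : Fin k → {u : K // u * σ u = 1}) (π : Equiv.Perm (Fin k)) (j : Fin k) :
    hgK σ w u π (w j) = (u (π j) : K) • w (π j) := by
  unfold hgK
  rw [Module.Basis.equiv_apply, Module.Basis.isUnitSMul_apply]

/-- the same, as an `F`-linear equivalence. -/
noncomputable def hgF (p : (Fin k → {u : K // u * σ u = 1}) × Equiv.Perm (Fin k)) :
    W ≃ₗ[F] W :=
  (hgK σ w p.1 p.2).restrictScalars F

theorem hgF_apply (p : (Fin k → {u : K // u * σ u = 1}) × Equiv.Perm (Fin k)) (a : K)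
    (j : Fin k) :
    hgF σ w p (a • w j) = (a * (p.1 (p.2 j) : K)) • w (p.2 j) := by
  show hgK σ w p.1 p.2 (a • w j) = _
  rw [map_smul, hgK_apply, smul_smul]

omit [IsScalarTower F K W] in
theorem hg_ext (g g' : W ≃ₗ[F] W) (h : ∀ (a : K) (j : Fin k), g (a • w j) = g' (a • w j)) :
    g = g' := by
  ext x
  rw [← w.sum_repr x, map_sum, map_sum]
  exact Finset.sum_congr rfl (fun j _ => h _ j)

omit [IsScalarTower F K W] in
theorem hg_bilin_sum (β : LinearMap.BilinForm F W) (f g : Fin k → W) :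
    β (∑ j, f j) (∑ l, g l) = ∑ j, ∑ l, β (f j) (g l) := by
  simp only [map_sum, LinearMap.sum_apply]
  rw [Finset.sum_comm]

theorem hg_isom (β : LinearMap.BilinForm F W) (τ : K → F)
    (hw : ∀ (j l : Fin k) (a b : K),
      β (a • w j) (b • w l) = if j = l then τ (σ a * b) else 0)
    (p : (Fin k → {u : K // u * σ u = 1}) × Equiv.Perm (Fin k)) (x y : W) :
    β (hgF σ w p x) (hgF σ w p y) = β x y := by
  obtain ⟨u, π⟩ := p
  have e : ∀ z : W, hgF σ w (u, π) z =
      ∑ j, ((w.repr z j) * (u (π j) : K)) • w (π j) := by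
    intro z
    conv_lhs => rw [← w.sum_repr z]
    rw [map_sum]
    exact Finset.sum_congr rfl (fun j _ => hgF_apply σ w (u, π) _ j)
  rw [e x, e y, hg_bilin_sum]
  conv_rhs => rw [← w.sum_repr x, ← w.sum_repr y]
  rw [hg_bilin_sum]
  apply Finset.sum_congr rfl
  intro j _
  apply Finset.sum_congr rfl
  intro l _
  rw [hw, hw]
  by_cases hjl : j = l
  · subst hjl
    rw [if_pos rfl, if_pos rfl]
    congr 1
    have hu := (u (π j)).2
    rw [map_mul]
    calc σ (w.repr x j) * σ (u (π j) : K) * (w.repr y j * (u (π j) : K))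
        = σ (w.repr x j) * w.repr y j * ((u (π j) : K) * σ (u (π j) : K)) := by ring
      _ = σ (w.repr x j) * w.repr y j := by rw [hu, mul_one]
  · rw [if_neg hjl, if_neg (fun h => hjl (π.injective h))]

theorem hgF_injective : Function.Injective (hgF σ w) := by
  rintro ⟨u, π⟩ ⟨u', π'⟩ h
  have h1 : ∀ j, (u (π j) : K) • w (π j) = (u' (π' j) : K) • w (π' j) := by
    intro j
    have h2 := congrArg (fun g : W ≃ₗ[F] W => g ((1 : K) • w j)) h
    simp only [hgF_apply, one_mul] at h2
    exact h2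
  have hπ : π = π' := by
    ext j
    by_contra hne
    have hne' : π j ≠ π' j := fun h' => hne (congrArg Fin.val h')
    have h2 := congrArg (fun x => w.repr x (π j)) (h1 j)
    simp only [map_smul, Module.Basis.repr_self, Finsupp.smul_apply, smul_eq_mul,
      Finsupp.single_apply, ↓reduceIte, mul_one] at h2
    rw [if_neg (fun h' => hne' h'.symm), mul_zero] at h2
    exact (hg_unit σ (u (π j))).ne_zero h2
  subst hπ
  have hu : u = u' := by
    funext i
    apply Subtype.ext
    have h2 := h1 (π⁻¹ i)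
    have h3 : π (π⁻¹ i) = i := by simp
    rw [h3] at h2
    exact smul_left_injective K (w.ne_zero i) h2
  rw [hu]

/-- the monomial group. -/
noncomputable def hgM : Subgroup (W ≃ₗ[F] W) where
  carrier := Set.range (hgF σ w)
  mul_mem' := by
    rintro _ _ ⟨⟨u, π⟩, rfl⟩ ⟨⟨u', π'⟩, rfl⟩
    refine ⟨(fun i => ⟨(u' (π⁻¹ i) : K) * (u i : K), ?_⟩, π * π'), ?_⟩
    · have h1 := (u' (π⁻¹ i)).2
      have h2 := (u i).2
      rw [map_mul]
      calc (u' (π⁻¹ i) : K) * (u i : K) * (σ (u' (π⁻¹ i) : K) * σ (u i : K))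
          = ((u' (π⁻¹ i) : K) * σ (u' (π⁻¹ i) : K)) * ((u i : K) * σ (u i : K)) := by ring
        _ = 1 := by rw [h1, h2, mul_one]
    · apply hg_ext w
      intro a j
      rw [hgF_apply, LinearEquiv.mul_apply, hgF_apply, hgF_apply]
      simp [mul_assoc]
  one_mem' := ⟨(fun _ => ⟨1, by simp⟩, 1), by
    apply hg_ext w
    intro a j
    rw [hgF_apply]
    simp⟩
  inv_mem' := by
    rintro _ ⟨⟨u, π⟩, rfl⟩
    refine ⟨(fun i => ⟨((u (π i) : K))⁻¹, ?_⟩, π⁻¹), ?_⟩
    · have h1 := (u (π i)).2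
      have h0 := (hg_unit σ (u (π i))).ne_zero
      rw [map_inv₀, ← mul_inv, h1, inv_one]
    · rw [eq_inv_iff_mul_eq_one]
      apply hg_ext w
      intro a j
      rw [LinearEquiv.mul_apply, hgF_apply, hgF_apply]
      have h0 := (hg_unit σ (u (π j))).ne_zero
      simp [h0]

theorem hgM_card :
    Nat.card (hgM (F := F) σ w) = Nat.card {u : K // u * σ u = 1} ^ k * k.factorial := by
  have h1 : Nat.card (Set.range (hgF (F := F) σ w)) =
      Nat.card ((Fin k → {u : K // u * σ u = 1}) × Equiv.Perm (Fin k)) :=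
    (Nat.card_congr (Equiv.ofInjective (hgF σ w) (hgF_injective σ w))).symm
  have h2 : Nat.card (Equiv.Perm (Fin k)) = k.factorial := by
    rw [Nat.card_eq_fintype_card, Fintype.card_perm, Fintype.card_fin]
  change Nat.card (Set.range (hgF (F := F) σ w)) = _
  rw [h1, Nat.card_prod, Nat.card_fun, Nat.card_fin, h2]

end HGroup

/-- [HGROUP] -/
theorem pkgHGroup : PkgHGroup.{u} := by
  intro F K W _ _ _ _ _ _ _ _ _ σ β k w τ hw
  refine ⟨hgM σ w, ?_, hgM_card σ w⟩
  rintro m ⟨p, rfl⟩ x y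
  exact hg_isom σ w β τ hw p x y

end Cfsg.Agent.Lib.Helper3.QSim
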