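import Mathlib
import Cfsg.Agent.Lib.Helper3.QSim.HDefs

/-!
# Project QSim (S5981), package [HORTH]

An orthogonal `K`-basis for a symmetric non-degenerate `F`-bilinear form `β` on a `K`-space `W`
with `β (a • u) v = β u (σ a • v)`.
-/

set_option autoImplicit false

namespace Cfsg.Agent.Lib.Helper3.QSim

open Cfsg.Agent.Lib.Helper58.QSim

universe u

theorem horth_aux {F K : Type u} [Field F] [Field K] [Algebra F K] [Finite K]
    (σ : K ≃ₐ[F] K) (h2 : (2 : F) ≠ 0) :
    ∀ (k : ℕ) (W : Type u) [AddCommGroup W] [Module F W] [Module K W] [IsScalarTower F K W]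
      [Module.Finite K W] (β : LinearMap.BilinForm F W),
      (∀ u v, β u v = β v u) → (∀ u, u ≠ 0 → ∃ v, β u v ≠ 0) →
      (∀ (a : K) (u v : W), β (a • u) v = β u (σ a • v)) →
      Module.finrank K W = k →
      ∃ v : Module.Basis (Fin k) K W,
        ∀ j l : Fin k, j ≠ l → ∀ a b : K, β (a • v j) (b • v l) = 0 := by
  intro k
  induction k with
  | zero =>
    intro W _ _ _ _ _ β hsymm hnd hadj hk
    exact ⟨Module.finBasisOfFinrankEq K W hk, fun j => j.elim0⟩
  | succ k ih =>
    intro W _ _ _ _ _ β hsymm hnd hadj hk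
    obtain ⟨u0, hu0⟩ : ∃ u0 : W, u0 ≠ 0 := by
      by_contra hcon
      push Not at hcon
      have hsub : Subsingleton W := ⟨fun a b => by rw [hcon a, hcon b]⟩
      have h0 := Module.finrank_zero_of_subsingleton (R := K) (M := W)
      omega
    obtain ⟨v, hv⟩ : ∃ v : W, β v v ≠ 0 := by
      by_contra hcon
      push Not at hcon
      obtain ⟨y, hy⟩ := hnd u0 hu0
      apply hy
      have h1 := hcon (u0 + y)
      simp only [map_add, LinearMap.add_apply] at h1
      rw [hcon u0, hcon y, hsymm y u0] at h1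
      have h3 : (2 : F) * β u0 y = 0 := by linear_combination h1
      rcases mul_eq_zero.1 h3 with h | h
      · exact absurd h h2
      · exact h
    obtain ⟨s, hs⟩ : ∃ s : K →ₗ[F] W, ∀ c : K, s c = c • v :=
      ⟨(LinearMap.toSpanSingleton K W v).restrictScalars F, fun c => rfl⟩
    obtain ⟨Ψ, hΨ⟩ : ∃ Ψ : K →ₗ[F] Module.Dual F K, ∀ c a : K, Ψ c a = β (c • v) (a • v) :=
      ⟨β.compl₁₂ s s, fun c a => by rw [LinearMap.compl₁₂_apply, hs, hs]⟩
    have hΨinj : Function.Injective Ψ := by
      rw [← LinearMap.ker_eq_bot, LinearMap.ker_eq_bot']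
      intro c hc
      by_contra hc0
      have hσc : σ c ≠ 0 := by
        intro h
        apply hc0
        have h' : σ c = σ 0 := by rw [h, map_zero]
        exact σ.injective h'
      have h1 := hΨ c (σ c)⁻¹
      rw [hc, LinearMap.zero_apply, hadj, smul_smul, mul_inv_cancel₀ hσc, one_smul] at h1
      exact hv h1.symm
    have hΨsurj : Function.Surjective Ψ :=
      (LinearMap.injective_iff_surjective_of_finrank_eq_finrank
        (Subspace.dual_finrank_eq (K := F) (V := K)).symm).1 hΨinj
    have hdec : ∀ x : W, ∃ c : K, ∀ a : K, β (x - c • v) (a • v) = 0 := by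
      intro x
      obtain ⟨c, hc⟩ := hΨsurj ((β x).comp s)
      refine ⟨c, fun a => ?_⟩
      have h1 := congrArg (fun φ : Module.Dual F K => φ a) hc
      simp only [hΨ, LinearMap.comp_apply, hs] at h1
      rw [map_sub, LinearMap.sub_apply, h1, sub_self]
    obtain ⟨P, hP⟩ : ∃ P : Submodule K W, ∀ x : W, x ∈ P ↔ ∀ a : K, β x (a • v) = 0 :=
      ⟨{ carrier := {x | ∀ a : K, β x (a • v) = 0}
         add_mem' := by
           intro x y hx hy a
           rw [map_add, LinearMap.add_apply, hx a, hy a, add_zero]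
         zero_mem' := by
           intro a
           simp
         smul_mem' := by
           intro c x hx a
           rw [hadj, smul_smul]
           exact hx _ }, fun x => Iff.rfl⟩
    have hLP : ∀ c : K, c • v ∈ P → c = 0 := by
      intro c hc
      apply hΨinj
      rw [map_zero]
      ext a
      rw [hΨ, LinearMap.zero_apply]
      exact (hP _).1 hc a
    have hli : ∀ (c : K), ∀ x ∈ P, c • v + x = 0 → c = 0 := by
      intro c x hx h
      apply hLP
      have h1 : c • v = -x := eq_neg_of_add_eq_zero_left h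
      rw [h1]
      exact P.neg_mem hx
    have hsp : ∀ z : W, ∃ c : K, z + c • v ∈ P := by
      intro z
      obtain ⟨c, hc⟩ := hdec z
      refine ⟨-c, ?_⟩
      rw [neg_smul, ← sub_eq_add_neg]
      exact (hP _).2 hc
    have hkP : Module.finrank K ↥P = k := by
      have b0 := Module.Basis.mkFinCons v (Module.finBasisOfFinrankEq K ↥P rfl) hli hsp
      have h1 := Module.finrank_eq_card_basis b0
      rw [Fintype.card_fin] at h1
      omega
    obtain ⟨ι, hι⟩ : ∃ ι : ↥P →ₗ[F] W, ∀ x : ↥P, ι x = (x : W) :=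
      ⟨(P.subtype).restrictScalars F, fun x => rfl⟩
    obtain ⟨β', hβ'⟩ : ∃ β' : LinearMap.BilinForm F ↥P, ∀ x y : ↥P, β' x y = β (x : W) (y : W) :=
      ⟨β.compl₁₂ ι ι, fun x y => by rw [LinearMap.compl₁₂_apply, hι, hι]⟩
    obtain ⟨v', hv'⟩ := ih ↥P β'
      (fun x y => by rw [hβ', hβ', hsymm])
      (fun x hx => by
        have hx' : (x : W) ≠ 0 := fun h => hx (Subtype.ext h)
        obtain ⟨y, hy⟩ := hnd (x : W) hx'
        obtain ⟨c, hc⟩ := hdec y
        refine ⟨⟨y - c • v, (hP _).2 hc⟩, ?_⟩
        rw [hβ']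
        show β (x : W) (y - c • v) ≠ 0
        rw [map_sub, (hP _).1 x.2 c, sub_zero]
        exact hy)
      (fun a x y => by
        rw [hβ', hβ', Submodule.coe_smul, Submodule.coe_smul, hadj])
      hkP
    obtain ⟨b, hb⟩ : ∃ b : Module.Basis (Fin (k + 1)) K W,
        (b : Fin (k + 1) → W) = Fin.cons v ((↑) ∘ v') :=
      ⟨Module.Basis.mkFinCons v v' hli hsp, Module.Basis.coe_mkFinCons v v' hli hsp⟩
    refine ⟨b, ?_⟩
    intro j l hjl a c
    rw [hb]
    induction j using Fin.cases with
    | zero =>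
      induction l using Fin.cases with
      | zero => exact absurd rfl hjl
      | succ l' =>
        rw [Fin.cons_zero, Fin.cons_succ, Function.comp_apply, hsymm]
        exact (hP _).1 (P.smul_mem c (v' l').2) a
    | succ j' =>
      induction l using Fin.cases with
      | zero =>
        rw [Fin.cons_zero, Fin.cons_succ, Function.comp_apply]
        exact (hP _).1 (P.smul_mem a (v' j').2) c
      | succ l' =>
        rw [Fin.cons_succ, Fin.cons_succ, Function.comp_apply, Function.comp_apply]
        have hne : j' ≠ l' := fun h => hjl (by rw [h])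
        have h1 := hv' j' l' hne a c
        rw [hβ', Submodule.coe_smul, Submodule.coe_smul] at h1
        exact h1

/-- [HORTH] -/
theorem pkgHOrth : PkgHOrth.{u} := by
  intro F K W _ _ _ _ _ _ _ _ _ _ σ β k hodd hσσ hsymm hnd hadj hk
  have h2 : (2 : F) ≠ 0 := by
    intro h
    have h1 : addOrderOf (1 : F) = 2 := by
      have : Fact (Nat.Prime 2) := ⟨Nat.prime_two⟩
      apply addOrderOf_eq_prime
      · rw [two_nsmul, one_add_one_eq_two, h]
      · exact one_ne_zero
    have h3 : addOrderOf (1 : F) ∣ Fintype.card F := addOrderOf_dvd_card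
    rw [h1] at h3
    exact (Nat.not_even_iff_odd.2 hodd) (even_iff_two_dvd.2 h3)
  exact horth_aux σ h2 k W β hsymm hnd hadj hk

end Cfsg.Agent.Lib.Helper3.QSim
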