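import Cfsg.Agent.Lib.Helper3.QSim.HGroup
import Cfsg.Agent.Lib.Helper3.QSim.HOrth
import Cfsg.Agent.Lib.Helper35.QSim.HNormz

/-!
# Project QSim (S5981): [HMONO] assembled from the cut [HORTH] + [HNORMZ] + [HGROUP]
(a second, independent proof of `PkgHMono`; the first is `Helper27.QSim.pkgHMono_of`).
-/

set_option autoImplicit false

namespace Cfsg.Agent.Lib.Helper3.QSim

open Cfsg.Agent.Lib.Helper58.QSim

universe u

/-- [HMONO] from [NORM], through the cut. -/
theorem pkgHMono_of_norm (hN : PkgNorm.{u}) : PkgHMono.{u} :=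
  pkgHMono_of_cut pkgHOrth Cfsg.Agent.Lib.Helper35.QSim.pkgHNormz pkgHGroup hN

end Cfsg.Agent.Lib.Helper3.QSim
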